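import Mathlib.FieldTheory.IsSepClosed
import Mathlib.LinearAlgebra.FiniteDimensional.Lemmas
import Mathlib.LinearAlgebra.Dimension.OrzechProperty
import Mathlib.LinearAlgebra.Dimension.Constructions
import Mathlib.Algebra.CharP.Lemmas
import Mathlib.GroupTheory.QuotientGroup.Basic
import Mathlib.Data.ZMod.Basic
import Mathlib.Algebra.CharP.Basic
import Mathlib.GroupTheory.Index
import Mathlib.FieldTheory.Finite.Basic

/-! # Frobenius-semilinear maps over separably closed fields (Dieudonné's lemma) -/

set_option autoImplicit false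
universe u v

open Polynomial

namespace FrobModLib

variable (p : ℕ) [hp : Fact p.Prime] {K : Type u} [Field K] [CharP K p]

lemma derivative_pow_char (Q : K[X]) : derivative (Q ^ p) = 0 := by
  rw [derivative_pow, CharP.cast_eq_zero, C_0, zero_mul, zero_mul]

lemma exists_pow_sub_self [IsSepClosed K] (a : K) : ∃ x : K, x ^ p - x = a := by
  have hd : (X ^ p - X - C a : K[X]).degree = p := by
    have h1 : (X : K[X]).degree < (X ^ p : K[X]).degree := by
      rw [degree_X, degree_X_pow]; exact_mod_cast hp.out.one_lt
    have h2 : (C a : K[X]).degree < (X ^ p - X : K[X]).degree := by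
      rw [degree_sub_eq_left_of_degree_lt h1, degree_X_pow]
      exact lt_of_le_of_lt degree_C_le (by exact_mod_cast hp.out.pos)
    rw [degree_sub_eq_left_of_degree_lt h2, degree_sub_eq_left_of_degree_lt h1, degree_X_pow]
  have hsep : (X ^ p - X - C a : K[X]).Separable := by
    rw [Polynomial.separable_def, derivative_sub, derivative_sub, derivative_pow_char, derivative_X, derivative_C]
    simp only [zero_sub, sub_zero]
    exact isCoprime_one_right.neg_right
  obtain ⟨x, hx⟩ := IsSepClosed.exists_root _ (by rw [hd]; exact_mod_cast hp.out.ne_zero) hsep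
  exact ⟨x, by simpa [IsRoot, sub_eq_zero] using hx⟩

lemma card_pow_eq_self : Nat.card {c : K // c ^ p = c} = p := by
  classical
  refine le_antisymm ?_ ?_
  · have hne : (X ^ p - X : K[X]) ≠ 0 := FiniteField.X_pow_card_sub_X_ne_zero K hp.out.one_lt
    let emb : {c : K // c ^ p = c} → (X ^ p - X : K[X]).roots.toFinset := fun c =>
      ⟨c.1, by rw [Multiset.mem_toFinset, mem_roots hne]; simp [IsRoot, c.2]⟩
    refine (Nat.card_le_card_of_injective emb fun a b h => Subtype.ext (congrArg (fun z => z.1) h)).trans ?_
    rw [Nat.card_eq_fintype_card, Fintype.card_coe]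
    exact (Multiset.toFinset_card_le _).trans ((card_roots' _).trans (FiniteField.X_pow_card_sub_X_natDegree_eq K hp.out.one_lt).le)
  · have : Finite {c : K // c ^ p = c} := by
      have hne : (X ^ p - X : K[X]) ≠ 0 := FiniteField.X_pow_card_sub_X_ne_zero K hp.out.one_lt
      exact Set.Finite.to_subtype ((X ^ p - X : K[X]).roots.toFinset.finite_toSet.subset fun c hc => by
        have hc' : c ^ p = c := hc
        simp [mem_roots hne, IsRoot, hc'])
    conv_lhs => rw [← Nat.card_zmod p]
    refine Nat.card_le_card_of_injective (fun a : ZMod p => (⟨ZMod.castHom dvd_rfl K a, by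
      rw [← map_pow, ZMod.pow_card]⟩ : {c : K // c ^ p = c})) fun a b h => ?_
    exact (ZMod.castHom dvd_rfl K).injective (congrArg Subtype.val h)

variable [IsSepClosed K] {V : Type v} [AddCommGroup V] [Module K V]

lemma injective_of_span [FiniteDimensional K V] (T : V →+ V) (hT : ∀ (r : K) (m : V), T (r • m) = r ^ p • T m)
    (hspan : Submodule.span K (Set.range T) = ⊤) : Function.Injective T := by
  let b := Module.finBasis K V
  have hsp : ⊤ ≤ Submodule.span K (Set.range (T ∘ b)) := by
    rw [← hspan, Submodule.span_le]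
    rintro _ ⟨m, rfl⟩
    rw [← b.sum_repr m, map_sum]
    exact Submodule.sum_mem _ fun i _ => by
      rw [hT]; exact Submodule.smul_mem _ _ (Submodule.subset_span ⟨i, rfl⟩)
  have hli : LinearIndependent K (T ∘ b) :=
    linearIndependent_of_top_le_span_of_card_eq_finrank hsp (Fintype.card_fin _)
  refine (injective_iff_map_eq_zero T).2 fun m hm => ?_
  rw [← b.sum_repr m, map_sum] at hm
  simp only [hT] at hm
  have := Fintype.linearIndependent_iff.1 hli _ hm
  refine b.ext_elem fun i => ?_
  have := this i
  simpa using pow_eq_zero_iff hp.out.ne_zero |>.1 this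

lemma exists_fixed [FiniteDimensional K V] [Nontrivial V] (T : V →+ V)
    (hT : ∀ (r : K) (m : V), T (r • m) = r ^ p • T m) (hspan : Submodule.span K (Set.range T) = ⊤) :
    ∃ w : V, w ≠ 0 ∧ T w = w := by
  classical
  have hinj := injective_of_span p T hT hspan
  obtain ⟨v, hv⟩ := exists_ne (0 : V)
  let e : ℕ → V := fun i => T^[i] v
  have he : ∀ i, T (e i) = e (i + 1) := fun i => (Function.iterate_succ_apply' T i v).symm
  have hex : ∃ m, e m ∈ Submodule.span K (e '' Set.Iio m) := by
    by_contra h
    push Not at h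
    have : ∀ k, k ≤ Module.finrank K (Submodule.span K (e '' Set.Iio k)) := by
      intro k
      induction k with
      | zero => exact Nat.zero_le _
      | succ k ih =>
        have hlt : Submodule.span K (e '' Set.Iio k) < Submodule.span K (e '' Set.Iio (k + 1)) :=
          SetLike.lt_iff_le_and_exists.2 ⟨Submodule.span_mono (Set.image_mono (Set.Iio_subset_Iio (by omega))),
            e k, Submodule.subset_span ⟨k, Set.mem_Iio.2 (by omega), rfl⟩, h k⟩
        have := Submodule.finrank_lt_finrank_of_lt hlt
        omega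
    have := (this (Module.finrank K V + 1)).trans (Submodule.finrank_le _)
    omega
  have hm := Nat.find_spec hex
  have hmin : ∀ j < Nat.find hex, e j ∉ Submodule.span K (e '' Set.Iio j) := fun j hj => Nat.find_min hex hj
  generalize Nat.find hex = m at hm hmin
  rcases m with _ | k
  · simp only [Set.Iio, Nat.not_lt_zero, Set.setOf_false, Set.image_empty, Submodule.span_empty, Submodule.mem_bot] at hm
    exact absurd hm hv
  obtain ⟨c, hc⟩ : ∃ c : ℕ → K, e (k + 1) = ∑ i ∈ Finset.range (k + 1), c i • e i := by
    rw [← Finset.coe_range, ← Finset.coe_image] at *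
    obtain ⟨f, hf⟩ := Submodule.mem_span_image_finset_iff_exists_fun K |>.1 (by rwa [Finset.coe_image] at hm)
    refine ⟨fun i => if h : i ∈ Finset.range (k + 1) then f ⟨i, h⟩ else 0, ?_⟩
    rw [← hf, ← Finset.sum_coe_sort (Finset.range (k + 1))]
    exact Finset.sum_congr rfl fun i _ => by simp
  let Q : ℕ → K[X] := fun i => Nat.rec (C (c 0) * X ^ p) (fun j q => q ^ p + C (c (j + 1)) * X ^ p) i
  have hQ' : ∀ i, derivative (Q i) = 0 := by
    intro i
    induction i with
    | zero => simp [Q, derivative_pow_char]
    | succ i _ => show derivative (Q i ^ p + _) = 0; simp [derivative_pow_char]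
  have hQdeg : ∀ i, p ≤ (Q i).natDegree ∨ (Q i = 0 ∧ ∀ j ≤ i, c j = 0) := by
    intro i
    induction i with
    | zero =>
      rcases eq_or_ne (c 0) 0 with h | h
      · exact Or.inr ⟨by simp [Q, h], fun j hj => by obtain rfl : j = 0 := by omega
                                                     exact h⟩
      · exact Or.inl (by simp [Q, natDegree_C_mul_X_pow, h])
    | succ i ih =>
      rcases ih with h | ⟨h0, hz⟩
      · left
        show p ≤ (Q i ^ p + C (c (i + 1)) * X ^ p).natDegree
        have h1 : (C (c (i + 1)) * X ^ p).natDegree < (Q i ^ p).natDegree := by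
          rw [natDegree_pow]
          refine lt_of_le_of_lt (natDegree_C_mul_X_pow_le _ _) ?_
          have := hp.out.two_le
          nlinarith
        rw [natDegree_add_eq_left_of_natDegree_lt h1, natDegree_pow]
        have := hp.out.two_le
        nlinarith
      · rcases eq_or_ne (c (i + 1)) 0 with h | h
        · refine Or.inr ⟨by show Q i ^ p + _ = 0; simp [h0, h, hp.out.ne_zero], fun j hj => ?_⟩
          rcases eq_or_lt_of_le hj with rfl | hj
          · exact h
          · exact hz j (by omega)
        · left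
          show p ≤ (Q i ^ p + C (c (i + 1)) * X ^ p).natDegree
          simp [h0, hp.out.ne_zero, natDegree_C_mul_X_pow, h]
  have hdeg : p ≤ (Q k).natDegree := (hQdeg k).resolve_right fun h => by
    have h0 : e (k + 1) = 0 := by
      rw [hc]; exact Finset.sum_eq_zero fun i hi => by rw [h.2 i (by simp at hi; omega), zero_smul]
    exact hv (hinj.iterate (k + 1) (by simpa [e, iterate_map_zero] using h0))
  have hev0 : ∀ i, (Q i).eval 0 = 0 := by
    intro i
    induction i with
    | zero => simp [Q, hp.out.ne_zero]
    | succ i ih => show (Q i ^ p + _).eval 0 = 0; simp [ih, hp.out.ne_zero]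
  obtain ⟨g, hg⟩ : (X : K[X]) ∣ Q k - X := by
    rw [X_dvd_iff, coeff_zero_eq_eval_zero]; simp [hev0]
  have hsep : (Q k - X).Separable := by
    rw [Polynomial.separable_def, derivative_sub, hQ', derivative_X, zero_sub]
    exact isCoprime_one_right.neg_right
  have hgdeg : 0 < g.natDegree := by
    have h1 : (Q k - X).natDegree = (Q k).natDegree :=
      natDegree_sub_eq_left_of_natDegree_lt (by rw [natDegree_X]; have := hp.out.two_le; omega)
    have hg0 : g ≠ 0 := by
      rintro rfl
      rw [hg, mul_zero, natDegree_zero] at h1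
      have := hp.out.pos; omega
    rw [hg, natDegree_X_mul hg0] at h1
    have := hp.out.two_le; omega
  obtain ⟨z, hz⟩ := IsSepClosed.exists_root g (natDegree_pos_iff_degree_pos.1 hgdeg).ne' ((hg ▸ hsep).of_mul_right)
  have hz0 : z ≠ 0 := by
    rintro rfl
    have := congrArg (fun f => eval 0 (derivative f)) hg
    simp only [derivative_sub, hQ', derivative_X, derivative_mul, eval_add, eval_mul, eval_X, zero_mul, zero_sub,
      eval_neg, eval_one, IsRoot.def.1 hz, mul_zero, add_zero] at this
    exact one_ne_zero (neg_eq_zero.1 this)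
  let x : ℕ → K := fun i => (Q i).eval z
  have hxk : x k = z := by
    have := congrArg (eval z) hg
    rw [eval_mul, IsRoot.def.1 hz, mul_zero, eval_sub, eval_X, sub_eq_zero] at this
    exact this
  refine ⟨∑ i ∈ Finset.range (k + 1), x i • e i, ?_, ?_⟩
  · intro h0
    rw [Finset.sum_range_succ, add_eq_zero_iff_eq_neg'] at h0
    have hmem : x k • e k ∈ Submodule.span K (e '' Set.Iio k) := by
      rw [h0]
      exact Submodule.neg_mem _ (Submodule.sum_mem _ fun i hi =>
        Submodule.smul_mem _ _ (Submodule.subset_span ⟨i, Finset.mem_range.1 hi, rfl⟩))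
    exact hmin k (by omega) ((Submodule.smul_mem_iff _ (hxk ▸ hz0)).1 hmem)
  · rw [map_sum]
    simp only [hT, he]
    rw [Finset.sum_range_succ, hc, hxk, Finset.smul_sum]
    simp only [smul_smul]
    rw [Finset.sum_range_succ' (fun i => (z ^ p * c i) • e i), Finset.sum_range_succ' (fun i => x i • e i),
      ← add_assoc, ← Finset.sum_add_distrib]
    congr 1
    · refine Finset.sum_congr rfl fun i _ => ?_
      rw [← add_smul]
      congr 1
      show _ = (Q i ^ p + C (c (i + 1)) * X ^ p).eval z
      simp only [x, eval_add, eval_pow, eval_mul, eval_C, eval_X]; ring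
    · congr 1
      show _ = (C (c 0) * X ^ p).eval z
      simp only [eval_pow, eval_mul, eval_C, eval_X]; ring

/-- **Dieudonné's lemma.** -/
theorem field_main [FiniteDimensional K V] (T : V →+ V) (hT : ∀ (r : K) (m : V), T (r • m) = r ^ p • T m)
    (hspan : Submodule.span K (Set.range T) = ⊤) :
    Function.Surjective (fun m => T m - m) ∧ Nat.card {m : V // T m = m} = p ^ Module.finrank K V := by
  induction hn : Module.finrank K V using Nat.strong_induction_on generalizing V with
  | _ n ih =>
    rcases subsingleton_or_nontrivial V with hV | hV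
    · rw [← hn, Module.finrank_zero_of_subsingleton, pow_zero]
      refine ⟨fun y => ⟨y, Subsingleton.elim _ _⟩, ?_⟩
      haveI : Unique {m : V // T m = m} := ⟨⟨⟨0, map_zero T⟩⟩, fun m => Subtype.ext (Subsingleton.elim _ _)⟩
      exact Nat.card_unique
    obtain ⟨w, hw0, hw⟩ := exists_fixed p T hT hspan
    let W : Submodule K V := K ∙ w
    have hW : ∀ u ∈ W, T u ∈ W := fun u hu => by
      obtain ⟨r, rfl⟩ := Submodule.mem_span_singleton.1 hu
      rw [hT, hw]; exact Submodule.smul_mem _ _ (Submodule.mem_span_singleton_self w)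
    let T' : V ⧸ W →+ V ⧸ W := QuotientAddGroup.map W.toAddSubgroup W.toAddSubgroup T fun u hu => hW u hu
    have hT'mk : ∀ u, T' (W.mkQ u) = W.mkQ (T u) := fun u => rfl
    have hT' : ∀ (r : K) (m : V ⧸ W), T' (r • m) = r ^ p • T' m := fun r m => by
      obtain ⟨u, rfl⟩ := W.mkQ_surjective m
      rw [← map_smul, hT'mk, hT'mk, hT, map_smul]
    have hspan' : Submodule.span K (Set.range T') = ⊤ := by
      rw [eq_top_iff, ← LinearMap.range_eq_top.2 W.mkQ_surjective, LinearMap.range_eq_map, ← hspan,
        Submodule.map_span, Submodule.span_le]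
      rintro _ ⟨_, ⟨u, rfl⟩, rfl⟩
      exact Submodule.subset_span ⟨W.mkQ u, hT'mk u⟩
    have hdim : Module.finrank K (V ⧸ W) + 1 = n := by
      rw [← hn, ← W.finrank_quotient_add_finrank, finrank_span_singleton hw0]
    obtain ⟨hsur, hcard⟩ := ih _ (by omega) T' hT' hspan' rfl
    have hlift : ∀ (y u : V), T' (W.mkQ u) - W.mkQ u = W.mkQ y → ∃ r : K, T (u + r • w) - (u + r • w) = y := by
      intro y u hu
      rw [hT'mk, ← map_sub, Submodule.mkQ_apply, Submodule.mkQ_apply, Submodule.Quotient.eq] at hu
      obtain ⟨a, ha⟩ := Submodule.mem_span_singleton.1 hu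
      obtain ⟨r, hr⟩ := exists_pow_sub_self p (-a : K)
      refine ⟨r, ?_⟩
      rw [map_add, hT, hw]
      have h1 : (r ^ p - r + a) • w = 0 := by rw [hr, neg_add_cancel, zero_smul]
      rw [add_smul, sub_smul, ha] at h1
      rw [← sub_eq_zero]
      refine Eq.trans ?_ h1
      abel
    refine ⟨fun y => ?_, ?_⟩
    · obtain ⟨ub, hub⟩ := hsur (W.mkQ y)
      obtain ⟨u, rfl⟩ := W.mkQ_surjective ub
      obtain ⟨r, hr⟩ := hlift y u hub
      exact ⟨_, hr⟩
    · let F : AddSubgroup V := (T - AddMonoidHom.id V).ker
      let F' : AddSubgroup (V ⧸ W) := (T' - AddMonoidHom.id (V ⧸ W)).ker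
      have hF : ∀ u, u ∈ F ↔ T u = u := fun u => by simp [F, sub_eq_zero]
      have hF' : ∀ u, u ∈ F' ↔ T' u = u := fun u => by simp [F', sub_eq_zero]
      let q : F →+ F' :=
        { toFun := fun u => ⟨W.mkQ u.1, (hF' _).2 (by rw [hT'mk, (hF _).1 u.2])⟩
          map_zero' := Subtype.ext (map_zero W.mkQ)
          map_add' := fun a b => Subtype.ext (map_add W.mkQ a.1 b.1) }
      have hq : Function.Surjective q := by
        rintro ⟨ub, hub⟩
        obtain ⟨u, rfl⟩ := W.mkQ_surjective ub
        obtain ⟨r, hr⟩ := hlift 0 u (by rw [map_zero, sub_eq_zero]; exact (hF' _).1 hub)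
        refine ⟨⟨u + r • w, (hF _).2 (sub_eq_zero.1 hr)⟩, Subtype.ext ?_⟩
        show W.mkQ (u + r • w) = W.mkQ u
        rw [map_add, map_smul, (Submodule.Quotient.mk_eq_zero W).2 (Submodule.mem_span_singleton_self w) |> fun h => (show W.mkQ w = 0 from h),
          smul_zero, add_zero]
      have hker : Nat.card q.ker = p := by
        conv_rhs => rw [← card_pow_eq_self p (K := K)]
        refine (Nat.card_congr (Equiv.ofBijective (fun c : {c : K // c ^ p = c} =>
          (⟨⟨c.1 • w, (hF _).2 (by rw [hT, hw, c.2])⟩, Subtype.ext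
            ((Submodule.Quotient.mk_eq_zero W).2 (Submodule.smul_mem _ _ (Submodule.mem_span_singleton_self w)))⟩ : q.ker))
          ⟨fun a b h => Subtype.ext (smul_left_injective K hw0 (congrArg (fun z => z.1.1) h)), fun u => ?_⟩)).symm
        have hu : W.mkQ u.1.1 = 0 := congrArg Subtype.val (AddMonoidHom.mem_ker.1 u.2)
        obtain ⟨r, hr⟩ := Submodule.mem_span_singleton.1 ((Submodule.Quotient.mk_eq_zero W).1 hu)
        have h2 := (hF _).1 u.1.2
        rw [← hr, hT, hw] at h2
        exact ⟨⟨r, smul_left_injective K hw0 h2⟩, Subtype.ext (Subtype.ext hr)⟩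
      have hcard' : Nat.card F' = p ^ Module.finrank K (V ⧸ W) := by
        rw [← hcard]; exact Nat.card_congr (Equiv.subtypeEquivRight hF')
      rw [← Nat.card_congr (Equiv.subtypeEquivRight hF), AddSubgroup.card_eq_card_quotient_mul_card_addSubgroup q.ker,
        Nat.card_congr (QuotientAddGroup.quotientKerEquivOfSurjective q hq).toEquiv, hker, hcard', ← hdim, pow_succ]

end FrobModLib
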