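import Groth.Agent.FrobModLib.Field
import Groth.Agent.HenselLib.NewtonSystem
import Mathlib.RingTheory.Filtration
import Mathlib.RingTheory.LocalRing.Module
import Mathlib.RingTheory.Henselian
import Mathlib.RingTheory.Nakayama
import Mathlib.Algebra.CharP.Algebra

/-! # Frobenius-semilinear maps over strictly henselian local rings -/

set_option autoImplicit false
universe u v

open IsLocalRing

namespace FrobModLib

variable (p : ℕ) [hp : Fact p.Prime] {R : Type u} [CommRing R]

/-- The semilinear map of `ι → R` with matrix `a`. -/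
def semMap [CharP R p] {ι : Type} [Fintype ι] (a : ι → ι → R) : (ι → R) →+ (ι → R) where
  toFun x i := ∑ j, x j ^ p * a j i
  map_zero' := funext fun i => by simp [hp.out.ne_zero]
  map_add' x y := funext fun i => by
    simp only [Pi.add_apply, add_pow_char, add_mul, Finset.sum_add_distrib]

lemma semMap_smul [CharP R p] {ι : Type} [Fintype ι] (a : ι → ι → R) (r : R) (x : ι → R) :
    semMap p a (r • x) = r ^ p • semMap p a x := by
  funext i
  simp [semMap, mul_pow, Finset.mul_sum, mul_assoc]

variable [HenselianLocalRing R] [CharP R p]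

lemma residue_charP : CharP (ResidueField R) p := CharP.quotient' p _ fun x hx => by
  by_contra hne
  have hnd : ¬ p ∣ x := fun h => hne ((CharP.cast_eq_zero_iff R p x).2 h)
  obtain ⟨a, b, hab⟩ := (Int.isCoprime_iff_nat_coprime.2 (by simpa using (Nat.Prime.coprime_iff_not_dvd hp.out).2 hnd) :
    IsCoprime (p : ℤ) (x : ℤ))
  have h1 : (b : R) * (x : R) = 1 := by
    have := congrArg (Int.cast : ℤ → R) hab
    simpa using this
  exact (mem_maximalIdeal _).1 hx (IsUnit.of_mul_eq_one (b : R) (by rw [mul_comm]; exact h1))

variable {ι : Type} [Fintype ι] (a : ι → ι → R)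

lemma exists_lift (y x₀ : ι → R) (h : ∀ i, semMap p a x₀ i - x₀ i - y i ∈ maximalIdeal R) :
    ∃ x : ι → R, semMap p a x - x = y ∧ ∀ i, x i - x₀ i ∈ maximalIdeal R := by
  classical
  let P : ι → MvPolynomial ι R := fun i =>
    (∑ j, MvPolynomial.X j ^ p * MvPolynomial.C (a j i)) - MvPolynomial.X i - MvPolynomial.C (y i)
  have hev : ∀ x i, MvPolynomial.eval x (P i) = semMap p a x i - x i - y i := fun x i => by
    simp [P, semMap]
  have hd : ∀ k i, MvPolynomial.pderiv k (P i) = -(Pi.single k 1 : ι → MvPolynomial ι R) i := fun k i => by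
    simp [P, map_sum, Derivation.leibniz, Derivation.leibniz_pow, CharP.cast_eq_zero, MvPolynomial.pderiv_X,
      Pi.single_apply, eq_comm]
  have hM : (Matrix.of fun k i => MvPolynomial.pderiv k (P i)) = -(1 : Matrix ι ι (MvPolynomial ι R)) := by
    ext k i
    rw [Matrix.of_apply, hd]
    simp [Matrix.one_apply, Pi.single_apply, eq_comm]
  obtain ⟨x, hx, hxx⟩ := HenselLib.exists_root_system (I := maximalIdeal R) P x₀ (fun i => by rw [hev]; exact h i)
    (by
      rw [hM]
      exact ((Matrix.isUnit_iff_isUnit_det (-(1 : Matrix ι ι (MvPolynomial ι R)))).1 (isUnit_one.neg)).map (MvPolynomial.eval x₀) |>.map _)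
  exact ⟨x, funext fun i => sub_eq_zero.1 ((hev x i).symm.trans (hx i)), hxx⟩

lemma eq_zero_of_fixed (x : ι → R) (hx : semMap p a x = x) (hm : ∀ i, x i ∈ maximalIdeal R) : x = 0 := by
  let I := Ideal.span (Set.range x)
  have hI : I ≤ maximalIdeal R := Ideal.span_le.2 (by rintro _ ⟨i, rfl⟩; exact hm i)
  have hle : I ≤ maximalIdeal R • I := Ideal.span_le.2 (by
    rintro _ ⟨i, rfl⟩
    rw [SetLike.mem_coe, ← congrFun hx i]
    refine Ideal.sum_mem _ fun j _ => ?_
    have : x j ^ p * a j i = (x j ^ (p - 1) * a j i) • x j := by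
      rw [smul_eq_mul, mul_right_comm, ← pow_succ, Nat.sub_add_cancel hp.out.one_le]
    rw [this]
    refine Submodule.smul_mem_smul ?_ (Ideal.subset_span ⟨j, rfl⟩)
    exact Ideal.mul_mem_right _ _ (Ideal.pow_mem_of_mem _ (hm j) _ (Nat.sub_pos_of_lt hp.out.one_lt)))
  have := Submodule.eq_bot_of_le_smul_of_le_jacobson_bot (maximalIdeal R) I
    (Submodule.fg_span (Set.finite_range x)) hle (maximalIdeal_le_jacobson ⊥)
  exact funext fun i => by
    have h : x i ∈ I := Ideal.subset_span ⟨i, rfl⟩
    rw [this] at h; exact h

variable [IsSepClosed (ResidueField R)]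

/-- Free case in coordinates. -/
theorem coord_main (hspan : Submodule.span R (Set.range (semMap p a)) = ⊤) :
    Function.Surjective (fun x => semMap p a x - x) ∧
    Nat.card {x : ι → R // semMap p a x = x} = p ^ Fintype.card ι := by
  haveI := residue_charP p (R := R)
  let ab : ι → ι → ResidueField R := fun j i => residue R (a j i)
  have hq : ∀ x, semMap p ab (fun i => residue R (x i)) = fun i => residue R (semMap p a x i) := fun x => by
    funext i
    simp [semMap, ab, map_sum]
  have hsurjv : ∀ v : ι → ResidueField R, ∃ x : ι → R, (fun i => residue R (x i)) = v := fun v => by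
    choose x hx using fun i => residue_surjective (R := R) (v i)
    exact ⟨x, funext hx⟩
  have hspan' : Submodule.span (ResidueField R) (Set.range (semMap p ab)) = ⊤ := by
    refine eq_top_iff.2 fun v _ => ?_
    obtain ⟨x, rfl⟩ := hsurjv v
    clear * - hq hspan
    have hmem : x ∈ Submodule.span R (Set.range (semMap p a)) := hspan ▸ Submodule.mem_top
    induction hmem using Submodule.span_induction with
    | mem z hz =>
      obtain ⟨w, rfl⟩ := hz
      exact Submodule.subset_span ⟨_, hq w⟩
    | zero => convert Submodule.zero_mem _ using 1; funext i; simp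
    | add z w _ _ hz hw => convert Submodule.add_mem _ hz hw using 1; funext i; simp
    | smul r z _ hz => convert Submodule.smul_mem _ (residue R r) hz using 1; funext i; simp
  obtain ⟨hsur, hcard⟩ := field_main p (semMap p ab) (semMap_smul p ab) hspan'
  constructor
  · intro y
    obtain ⟨v, hv⟩ := hsur fun i => residue R (y i)
    obtain ⟨x₀, rfl⟩ := hsurjv v
    obtain ⟨x, hx, -⟩ := exists_lift p a y x₀ fun i => by
      rw [← residue_eq_zero_iff, map_sub, map_sub, sub_eq_zero]
      have := congrFun hv i
      simp only [Pi.sub_apply, hq] at this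
      exact this
    exact ⟨x, hx⟩
  · rw [← Module.finrank_pi (ResidueField R), ← hcard]
    refine Nat.card_congr (Equiv.ofBijective (fun x => ⟨fun i => residue R (x.1 i), by rw [hq, x.2]⟩) ⟨?_, ?_⟩)
    · intro x x' h
      have h' := congrArg Subtype.val h
      refine Subtype.ext (sub_eq_zero.1 (eq_zero_of_fixed p a _ (by rw [map_sub, x.2, x'.2]) fun i => ?_))
      rw [Pi.sub_apply, ← residue_eq_zero_iff, map_sub, sub_eq_zero]
      exact congrFun h' i
    · rintro ⟨v, hv⟩
      obtain ⟨x₀, rfl⟩ := hsurjv v
      obtain ⟨x, hx, hxx⟩ := exists_lift p a 0 x₀ fun i => by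
        rw [← residue_eq_zero_iff, map_sub, map_sub, Pi.zero_apply, map_zero, sub_zero, sub_eq_zero]
        have := congrFun hv i
        rw [hq] at this
        exact this
      refine ⟨⟨x, sub_eq_zero.1 hx⟩, Subtype.ext (funext fun i => ?_)⟩
      show residue R (x i) = residue R (x₀ i)
      rw [← sub_eq_zero, ← map_sub, residue_eq_zero_iff]
      exact hxx i

/-- Free modules. -/
theorem free_main {M : Type v} [AddCommGroup M] [Module R M] [Module.Free R M] [Module.Finite R M] (T : M →+ M)
    (hT : ∀ (r : R) (m : M), T (r • m) = r ^ p • T m) (hspan : Submodule.span R (Set.range T) = ⊤) :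
    Function.Surjective (fun m => T m - m) ∧ Nat.card {m : M // T m = m} = p ^ Module.finrank R M := by
  let b := Module.finBasis R M
  let a : Fin (Module.finrank R M) → Fin (Module.finrank R M) → R := fun j i => b.repr (T (b j)) i
  have hTc : ∀ m, (b.equivFun (T m) : _ → R) = semMap p a (b.equivFun m) := fun m => by
    funext i
    have h1 : T m = ∑ j, b.repr m j ^ p • T (b j) := by
      conv_lhs => rw [← b.sum_repr m, map_sum]
      simp only [hT]
    show b.repr (T m) i = ∑ j, b.repr m j ^ p * b.repr (T (b j)) i
    rw [h1]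
    simp only [map_sum, map_smul, Finsupp.finsetSum_apply, Finsupp.smul_apply, smul_eq_mul]
  have hspan' : Submodule.span R (Set.range (semMap p a)) = ⊤ := by
    rw [eq_top_iff, ← LinearMap.range_eq_top.2 b.equivFun.surjective, LinearMap.range_eq_map, ← hspan,
      Submodule.map_span, Submodule.span_le]
    rintro _ ⟨_, ⟨m, rfl⟩, rfl⟩
    exact Submodule.subset_span ⟨_, (hTc m).symm⟩
  obtain ⟨hsur, hcard⟩ := coord_main p a hspan'
  refine ⟨fun y => ?_, ?_⟩
  · obtain ⟨x, hx⟩ := hsur (b.equivFun y)
    refine ⟨b.equivFun.symm x, b.equivFun.injective ?_⟩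
    rw [map_sub, hTc, LinearEquiv.apply_symm_apply]
    exact hx
  · rw [← Fintype.card_fin (Module.finrank R M), ← hcard]
    exact Nat.card_congr (b.equivFun.toEquiv.subtypeEquiv fun m =>
      ⟨fun h => by show semMap p a (b.equivFun m) = b.equivFun m; rw [← hTc, h],
       fun h => b.equivFun.injective (by rw [hTc]; exact h)⟩)

/-- Finite modules over noetherian rings. -/
theorem noeth_main [IsNoetherianRing R] {M : Type v} [AddCommGroup M] [Module R M] [Module.Finite R M] (T : M →+ M)
    (hT : ∀ (r : R) (m : M), T (r • m) = r ^ p • T m) (hspan : Submodule.span R (Set.range T) = ⊤) :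
    Function.Surjective (fun m => T m - m) ∧
    Nat.card {m : M // T m = m} = p ^ Module.finrank (ResidueField R) (TensorProduct R (ResidueField R) M) := by
  let bb := Module.finBasis (ResidueField R) (TensorProduct R (ResidueField R) M)
  choose g hg using fun i => TensorProduct.mk_surjective R M (ResidueField R) residue_surjective (bb i)
  let f := Fintype.linearCombination R g
  have hf : Function.Surjective f := by
    rw [← LinearMap.range_eq_top, Fintype.range_linearCombination]
    exact span_eq_top_of_tmul_eq_basis g bb hg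
  have hker : ∀ x, f x = 0 → ∀ i, x i ∈ maximalIdeal R := by
    intro x hx i
    rw [← residue_eq_zero_iff]
    have h := congrArg (TensorProduct.mk R (ResidueField R) M 1) hx
    simp only [f, Fintype.linearCombination_apply, map_sum, map_smul, hg, map_zero] at h
    have h2 : ∑ i, residue R (x i) • bb i = 0 := by
      rw [← h]; exact Finset.sum_congr rfl fun i _ => algebraMap_smul (ResidueField R) (x i) (bb i)
    exact Fintype.linearIndependent_iff.1 bb.linearIndependent _ h2 i
  choose c hc using fun j => hf (T (g j))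
  have hfT : ∀ x, f (semMap p c x) = T (f x) := fun x => by
    have : semMap p c x = ∑ j, x j ^ p • c j := by funext i; simp [semMap]
    rw [this, map_sum, show f x = ∑ j, x j • g j from Fintype.linearCombination_apply R g x, map_sum]
    exact Finset.sum_congr rfl fun j _ => by rw [map_smul, hc, hT]
  have hspan' : Submodule.span R (Set.range (semMap p c)) = ⊤ := by
    rw [eq_top_iff]
    refine Submodule.le_of_le_smul_of_le_jacobson_bot Module.Finite.fg_top (maximalIdeal_le_jacobson ⊥) ?_
    intro x _
    have hmem : f x ∈ (Submodule.span R (Set.range (semMap p c))).map f := by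
      have : (⊤ : Submodule R M) ≤ (Submodule.span R (Set.range (semMap p c))).map f := by
        rw [← hspan, Submodule.span_le]
        rintro _ ⟨m, rfl⟩
        obtain ⟨w, rfl⟩ := hf m
        exact ⟨_, Submodule.subset_span ⟨w, rfl⟩, hfT w⟩
      exact this Submodule.mem_top
    obtain ⟨z, hz, hzx⟩ := hmem
    rw [← add_sub_cancel z x]
    refine Submodule.add_mem_sup hz ?_
    rw [pi_eq_sum_univ' (x - z)]
    exact Submodule.sum_mem _ fun i _ =>
      Submodule.smul_mem_smul (hker _ (by rw [map_sub, hzx, sub_self]) i) Submodule.mem_top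
  obtain ⟨hsur, hcard⟩ := coord_main p c hspan'
  have hfix : ∀ m : M, T m = m → m ∈ maximalIdeal R • (⊤ : Submodule R M) → m = 0 := by
    intro m hm hmem
    have hstep : ∀ (k : ℕ) (z : M), z ∈ maximalIdeal R ^ k • (⊤ : Submodule R M) →
        T z ∈ maximalIdeal R ^ (k * p) • (⊤ : Submodule R M) := by
      intro k z hz
      refine Submodule.smul_induction_on hz (fun r hr w _ => ?_) fun u w hu hw => by
        rw [map_add]; exact add_mem hu hw
      rw [hT, pow_mul]
      exact Submodule.smul_mem_smul (Ideal.pow_mem_pow hr p) Submodule.mem_top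
    have hall : ∀ k, m ∈ maximalIdeal R ^ k • (⊤ : Submodule R M) := by
      intro k
      induction k with
      | zero => simp
      | succ k ih =>
        rcases Nat.eq_zero_or_pos k with rfl | hk
        · simpa using hmem
        · rw [← hm]
          refine Submodule.smul_mono_left (Ideal.pow_le_pow_right ?_) (hstep k m ih)
          have := hp.out.two_le
          nlinarith
    have : m ∈ (⨅ k : ℕ, maximalIdeal R ^ k • ⊤ : Submodule R M) := Submodule.mem_iInf _ |>.2 hall
    rwa [Ideal.iInf_pow_smul_eq_bot_of_isLocalRing _ (Ideal.IsMaximal.ne_top inferInstance), Submodule.mem_bot] at this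
  refine ⟨fun y => ?_, ?_⟩
  · obtain ⟨y', rfl⟩ := hf y
    obtain ⟨x, rfl⟩ := hsur y'
    exact ⟨f x, by simp [hfT]⟩
  · rw [← Fintype.card_fin (Module.finrank (ResidueField R) _), ← hcard]
    refine (Nat.card_congr (Equiv.ofBijective (fun x => ⟨f x.1, by rw [← hfT, x.2]⟩) ⟨?_, ?_⟩)).symm
    · intro x x' h
      have h' : f x.1 = f x'.1 := congrArg Subtype.val h
      refine Subtype.ext (sub_eq_zero.1 (eq_zero_of_fixed p c _ (by rw [map_sub, x.2, x'.2])
        (hker _ (by rw [map_sub, h', sub_self]))))
    · rintro ⟨m, hm⟩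
      obtain ⟨x₀, rfl⟩ := hf m
      obtain ⟨x, hx, hxx⟩ := exists_lift p c 0 x₀ fun i => by
        rw [Pi.zero_apply, sub_zero]
        exact hker (semMap p c x₀ - x₀) (by rw [map_sub, hfT, hm, sub_self]) i
      have hx' : semMap p c x = x := sub_eq_zero.1 hx
      refine ⟨⟨x, hx'⟩, Subtype.ext (sub_eq_zero.1 (hfix _ ?_ ?_))⟩
      · show T (f x - f x₀) = f x - f x₀
        rw [map_sub, ← hfT, hx', hm]
      · show f x - f x₀ ∈ _
        rw [← map_sub]
        simp only [f, Fintype.linearCombination_apply]
        exact Submodule.sum_mem _ fun i _ => Submodule.smul_mem_smul (hxx i) Submodule.mem_top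

end FrobModLib
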